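import Cfsg.Agent.Lib.Perm.CompLength.Series

/-! The composition length bound for primitive groups with abelian socle. -/

namespace CfsgLib.Perm.CompLength

open MulAction

theorem cardFactors_bound_5040 {d : ℕ} (hd : d ∣ 5040) :
    16 * 3 ^ ArithmeticFunction.cardFactors d ≤ 81 * d := by
  obtain ⟨d1, d2, h1, h2, rfl⟩ := Nat.dvd_mul.1 (show d ∣ 2 ^ 4 * 315 by simpa using hd)
  obtain ⟨j, hj, rfl⟩ := (Nat.dvd_prime_pow Nat.prime_two).1 h1
  have h20 : d2 ≠ 0 := by rintro rfl; norm_num at h2
  rw [ArithmeticFunction.cardFactors_mul (by positivity) h20,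
    ArithmeticFunction.cardFactors_apply_prime_pow Nat.prime_two, pow_add]
  have : 3 ^ ArithmeticFunction.cardFactors d2 ≤ d2 := by
    rw [ArithmeticFunction.cardFactors_apply]
    refine (List.pow_card_le_prod _ 3 fun x hx => ?_).trans_eq (Nat.prod_primeFactorsList h20)
    have hp := Nat.prime_of_mem_primeFactorsList hx
    have hx315 : x ∣ 315 := (Nat.dvd_of_mem_primeFactorsList hx).trans h2
    have := hp.two_le
    by_contra hc
    have : x = 2 := by omega
    subst this
    norm_num at hx315
  have hj' : 16 * 3 ^ j ≤ 81 * 2 ^ j := by interval_cases j <;> norm_num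
  calc 16 * (3 ^ j * 3 ^ ArithmeticFunction.cardFactors d2)
      = (16 * 3 ^ j) * 3 ^ ArithmeticFunction.cardFactors d2 := by ring
    _ ≤ (81 * 2 ^ j) * d2 := Nat.mul_le_mul hj' this
    _ = 81 * (2 ^ j * d2) := by ring

theorem numeric {p k c : ℕ} (hp : p.Prime) (hk : 1 ≤ k) (h1 : 2 ^ c ≤ (p ^ k - 1) ^ k)
    (h4 : p ^ k = 4 → c ≤ 2) (h8 : p ^ k = 8 → c ≤ 6) : 3 * (k + c) + 4 ≤ 4 * p ^ k := by
  rcases eq_or_lt_of_le hk with rfl | hk2
  · rw [pow_one, pow_one] at h1
    have := c.lt_two_pow_self
    have := hp.two_le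
    rw [pow_one]
    omega
  rcases Nat.lt_or_ge (p ^ k) 32 with hn | hn
  · have hk4 : k < 5 := by
      by_contra hc
      have h32 : 2 ^ 5 ≤ p ^ k := (Nat.pow_le_pow_left hp.two_le 5).trans
        (Nat.pow_le_pow_right hp.pos (by omega))
      omega
    have hp5 : p < 6 := by
      by_contra hc
      have h36 : 6 ^ 2 ≤ p ^ k := (Nat.pow_le_pow_left (Nat.le_of_not_lt hc) 2).trans
        (Nat.pow_le_pow_right hp.pos hk2)
      omega
    have := hp.two_le
    have hbig : ∀ m, 2 ^ c < 2 ^ m → c < m := fun m => (Nat.pow_lt_pow_iff_right one_lt_two).1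
    interval_cases p <;> interval_cases k <;> (try norm_num at hn h1 h4 h8 hp ⊢) <;> (try omega)
    all_goals
      first
        | (have := hbig 15 (by norm_num; omega); omega)
        | (have := hbig 10 (by norm_num; omega); omega)
        | (have := hbig 7 (by norm_num; omega); omega)
        | (have := hbig 16 (by norm_num; omega); omega)
  · set n := p ^ k with hn'
    set L := Nat.log 2 n with hL
    have hL5 : 5 ≤ L := by
      refine Nat.le_log_of_pow_le one_lt_two ?_
      omega
    have hkL : k ≤ L := Nat.le_log_of_pow_le one_lt_two (Nat.pow_le_pow_left hp.two_le k)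
    have hlt : n < 2 ^ (L + 1) := Nat.lt_pow_succ_log_self one_lt_two n
    have hle : 2 ^ L ≤ n := Nat.pow_log_le_self 2 (by omega)
    have h2 : 2 ^ c < 2 ^ ((L + 1) * k) := by
      rw [pow_mul]
      exact h1.trans_lt (Nat.pow_lt_pow_left (by omega) (by omega))
    have hc : c < (L + 1) * k := (Nat.pow_lt_pow_iff_right one_lt_two).1 h2
    have hk' : (L + 1) * k ≤ (L + 1) * L := Nat.mul_le_mul_left _ hkL
    have key : ∀ m, 5 ≤ m → 3 * (m * m + 2 * m) + 1 ≤ 4 * 2 ^ m := by
      intro m hm
      induction m, hm using Nat.le_induction with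
      | base => norm_num
      | succ m hm ih =>
        rw [pow_succ]
        nlinarith
    have := key L hL5
    have e : (L + 1) * L = L * L + L := by ring
    omega

theorem exists_generators {N : Type*} [Group N] [Finite N] {p k : ℕ} (hp : p.Prime)
    (hcard : Nat.card N = p ^ k) :
    ∃ S : Finset N, S.card ≤ k ∧ (∀ s ∈ S, s ≠ 1) ∧ Subgroup.closure (S : Set N) = ⊤ := by
  classical
  have h : ∀ j, ∃ S : Finset N, S.card ≤ j ∧ (∀ s ∈ S, s ≠ 1) ∧
      (Subgroup.closure (S : Set N) = ⊤ ∨ p ^ j ≤ Nat.card (Subgroup.closure (S : Set N))) := by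
    intro j
    induction j with
    | zero => exact ⟨∅, le_rfl, by simp, Or.inr (by simp [Nat.one_le_iff_ne_zero, Nat.card_pos.ne'])⟩
    | succ j ih =>
      obtain ⟨S, hS, h1, h2⟩ := ih
      by_cases ht : Subgroup.closure (S : Set N) = ⊤
      · exact ⟨S, by omega, h1, Or.inl ht⟩
      have h2' := h2.resolve_left ht
      obtain ⟨x, -, hx⟩ := SetLike.exists_of_lt (lt_top_iff_ne_top.2 ht)
      refine ⟨insert x S, (Finset.card_insert_le _ _).trans (by omega), ?_, Or.inr ?_⟩
      · intro s hs
        rcases Finset.mem_insert.1 hs with rfl | hs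
        · exact fun e => hx (e ▸ one_mem _)
        · exact h1 s hs
      · have hlt : Subgroup.closure (S : Set N) < Subgroup.closure (↑(insert x S) : Set N) :=
          (Subgroup.closure_mono (by simp)).lt_of_ne fun e =>
            hx (e.ge (Subgroup.subset_closure (by simp)))
        obtain ⟨a, -, ha⟩ := (Nat.dvd_prime_pow hp).1
          (hcard ▸ Subgroup.card_subgroup_dvd_card (Subgroup.closure (S : Set N)))
        obtain ⟨b, -, hb⟩ := (Nat.dvd_prime_pow hp).1
          (hcard ▸ Subgroup.card_subgroup_dvd_card (Subgroup.closure (↑(insert x S) : Set N)))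
        have : Nat.card (Subgroup.closure (S : Set N)) <
            Nat.card (Subgroup.closure (↑(insert x S) : Set N)) := by
          by_contra hc
          exact hlt.ne (Subgroup.eq_of_le_of_card_ge hlt.le (not_lt.1 hc))
        rw [ha, hb] at this
        rw [ha] at h2'
        rw [hb]
        have := (Nat.pow_lt_pow_iff_right hp.one_lt).1 this
        have := (Nat.pow_le_pow_iff_right hp.one_lt).1 h2'
        exact Nat.pow_le_pow_right hp.pos (by omega)
  obtain ⟨S, hS, h1, h2⟩ := h k
  exact ⟨S, hS, h1, h2.elim id fun h3 => Subgroup.eq_top_of_le_card _ (by rw [hcard]; exact h3)⟩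

variable {G Ω : Type*} [Group G] [Finite G] [MulAction G Ω] [FaithfulSMul G Ω] [Fintype Ω]

theorem abelian_step (N : Subgroup G) [N.Normal] (hab : ∀ x ∈ N, ∀ y ∈ N, x * y = y * x)
    (hmin : ∀ M : Subgroup G, M.Normal → M ≤ N → M = ⊥ ∨ M = N) (hN : N ≠ ⊥) (a : Ω)
    (htr : ∀ b : Ω, ∃ x ∈ N, x • a = b) (hreg : N ⊓ stabilizer G a = ⊥) :
    3 * (cl N + cl (stabilizer G a)) + 4 ≤ 4 * Fintype.card Ω := by
  classical
  haveI : Nontrivial N := (Subgroup.nontrivial_iff_ne_bot N).2 hN
  let p := (Nat.card N).minFac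
  have hp : p.Prime := Nat.minFac_prime Finite.one_lt_card.ne'
  haveI := Fact.mk hp
  obtain ⟨P⟩ : Nonempty (Sylow p N) := inferInstance
  haveI : IsMulCommutative N := ⟨⟨fun x y => Subtype.ext (hab x x.2 y y.2)⟩⟩
  haveI hPn : (P : Subgroup N).Normal := ⟨fun x hx g => by
    rwa [show g * x * g⁻¹ = x by rw [mul_comm' g x, mul_inv_cancel_right]]⟩
  haveI : (P : Subgroup N).Characteristic := P.characteristic_of_normal hPn
  have hPne : (P : Subgroup N) ≠ ⊥ := P.ne_bot_of_dvd_card (Nat.minFac_dvd _)
  have hPtop : (P : Subgroup N) = ⊤ := by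
    rcases hmin ((P : Subgroup N).map N.subtype) inferInstance (Subgroup.map_subtype_le _) with h | h
    · exact absurd ((Subgroup.map_eq_bot_iff_of_injective _ N.subtype_injective).1 h) hPne
    · apply Subgroup.map_injective N.subtype_injective
      rw [h, ← MonoidHom.range_eq_map, Subgroup.range_subtype]
  have hpg : IsPGroup p N := by
    intro x
    obtain ⟨m, hm⟩ := P.isPGroup' ⟨x, hPtop ▸ Subgroup.mem_top x⟩
    exact ⟨m, congrArg Subtype.val hm⟩
  obtain ⟨k, hk⟩ := IsPGroup.iff_card.1 hpg
  have hbij : Function.Bijective fun x : N => (x : G) • a := by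
    refine ⟨fun x y e => ?_, fun b => ?_⟩
    · have : ((y : G)⁻¹ * x) ∈ N ⊓ stabilizer G a :=
        ⟨N.mul_mem (N.inv_mem y.2) x.2, by
          show ((y : G)⁻¹ * x) • a = a
          rw [mul_smul, show (x : G) • a = (y : G) • a from e, inv_smul_smul]⟩
      rw [hreg, Subgroup.mem_bot, inv_mul_eq_one] at this
      exact Subtype.ext this.symm
    · obtain ⟨x, hx, e⟩ := htr b
      exact ⟨⟨x, hx⟩, e⟩
  have hn : Fintype.card Ω = p ^ k := by
    rw [← Nat.card_eq_fintype_card, ← Nat.card_eq_of_bijective _ hbij, hk]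
  have hk1 : 1 ≤ k := by
    by_contra hc
    have := (Finite.one_lt_card (α := N)).trans_eq hk
    rw [show k = 0 by omega, pow_zero] at this
    omega
  obtain ⟨S, hSk, hS1, hS⟩ := exists_generators hp hk
  let H := stabilizer G a
  -- `H` is determined by its action on generators of `N`
  let F : H → (S → {x : Ω // x ≠ a}) := fun h s => ⟨(h : G) • ((s.1 : G) • a), fun e => by
    have e2 : ((s.1 : G)) • a = a := by
      rwa [← smul_left_cancel_iff (h : G), show (h : G) • a = a from h.2]
    exact hS1 s.1 s.2 (hbij.1 (by simpa using e2))⟩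
  have hF : Function.Injective F := by
    intro h h' e
    have hc : (h : G)⁻¹ * h' ∈ Subgroup.centralizer (N : Set G) := by
      have : Subgroup.closure ((↑) '' (S : Set N) : Set G) = N := by
        rw [← Subgroup.coe_subtype N, ← MonoidHom.map_closure, hS, ← MonoidHom.range_eq_map,
          Subgroup.range_subtype]
      rw [← this, Subgroup.centralizer_closure]
      rw [Subgroup.mem_centralizer_iff]
      rintro _ ⟨s, hs, rfl⟩
      set g := (h : G)⁻¹ * h' with hg
      have hga : g • a = a := (H.mul_mem (H.inv_mem h.2) h'.2 : g ∈ H)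
      have hgs : g • ((s : G) • a) = (s : G) • a := by
        have := congrArg Subtype.val (congrFun e ⟨s, hs⟩)
        simp only [F] at this
        rw [hg, mul_smul, ← this, inv_smul_smul]
      have : (⟨g * s * g⁻¹, ‹N.Normal›.conj_mem _ s.2 g⟩ : N) = s := hbij.1 (by
        show (g * s * g⁻¹) • a = (s : G) • a
        rw [mul_smul, inv_smul_eq_iff.2 hga.symm, mul_smul, hgs])
      exact (mul_inv_eq_iff_eq_mul.1 (congrArg Subtype.val this)).symm
    have : (h : G)⁻¹ * h' = 1 := by
      refine FaithfulSMul.eq_of_smul_eq_smul (α := Ω) fun b => ?_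
      obtain ⟨x, hx, rfl⟩ := htr b
      rw [one_smul, ← mul_smul, ← Subgroup.mem_centralizer_iff.1 hc x hx, mul_smul,
        show ((h : G)⁻¹ * h') • a = a from (H.mul_mem (H.inv_mem h.2) h'.2 : _ ∈ H)]
    exact Subtype.ext (inv_mul_eq_one.1 this)
  have hcard : Nat.card {x : Ω // x ≠ a} = p ^ k - 1 := by
    rw [Nat.card_eq_fintype_card, Fintype.card_subtype_compl, hn, Fintype.card_subtype_eq]
  have hH : Nat.card H ≤ (p ^ k - 1) ^ k := by
    refine (Nat.card_le_card_of_injective F hF).trans ?_
    rw [Nat.card_fun, hcard, Nat.card_eq_fintype_card, Fintype.card_coe]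
    refine Nat.pow_le_pow_right ?_ hSk
    have := Nat.one_lt_pow (by omega : k ≠ 0) hp.one_lt
    omega
  have hdvd : Nat.card H ∣ (p ^ k - 1).factorial := by
    let act : H →* Equiv.Perm {x : Ω // x ≠ a} :=
      { toFun := fun h => (MulAction.toPerm (h : G)).subtypePerm fun x => by
          show (h : G) • x ≠ a ↔ x ≠ a
          rw [not_iff_not]
          exact ⟨fun e => by rwa [← smul_left_cancel_iff (h : G), show (h : G) • a = a from h.2],
            fun e => by rw [e]; exact h.2⟩
        map_one' := Equiv.ext fun x => Subtype.ext (by simp)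
        map_mul' := fun g h => Equiv.ext fun x => Subtype.ext (mul_smul (g : G) (h : G) x.1) }
    have := Subgroup.card_dvd_of_injective act fun g h e => by
      refine Subtype.ext (FaithfulSMul.eq_of_smul_eq_smul (α := Ω) fun x => ?_)
      rcases eq_or_ne x a with rfl | hx
      · exact g.2.trans h.2.symm
      · exact congrArg Subtype.val (Equiv.congr_fun e ⟨x, hx⟩)
    rwa [Nat.card_perm, hcard] at this
  have hN' : cl N ≤ k := by
    have := cl_le_cardFactors N
    rwa [hk, ArithmeticFunction.cardFactors_apply_prime_pow hp] at this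
  have hc2 := two_pow_cl_le H
  have h := numeric (c := cl H) hp hk1 (hc2.trans hH) (fun e => by
    rw [e] at hdvd
    have : Nat.card H ≤ 6 := Nat.le_of_dvd (by norm_num) hdvd
    by_contra hc
    have := Nat.pow_le_pow_right two_pos (Nat.lt_of_not_le hc)
    omega) (fun e => by
    rw [e] at hdvd hH
    have hk3 : k ≤ 3 := (Nat.pow_le_pow_iff_right one_lt_two).1
      ((Nat.pow_le_pow_left hp.two_le k).trans (by rw [e]; norm_num))
    have h343 : Nat.card H ≤ 343 := hH.trans ((Nat.pow_le_pow_right (by norm_num) hk3).trans (by norm_num))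
    have h3 := cardFactors_bound_5040 (d := Nat.card H) hdvd
    have h4 := cl_le_cardFactors H
    by_contra hc
    have := Nat.pow_le_pow_right (show 0 < 3 by norm_num) ((Nat.lt_of_not_le hc).trans_le h4)
    omega)
  rw [hn]
  show 3 * (cl N + cl H) + 4 ≤ _
  omega

end CfsgLib.Perm.CompLength
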