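import Cfsg.Agent.Lib.Perm.CompLength.Series

/-! Powers of a nonabelian simple group: automorphisms, and a weight bound for maximal invariant
subgroups. -/

namespace CfsgLib.Perm.CompLength

open Finset

variable {ι T : Type*} [Group T] [IsSimpleGroup T]

theorem exists_not_commute (hna : ∃ a b : T, a * b ≠ b * a) {x : T} (hx : x ≠ 1) :
    ∃ t, x * t ≠ t * x := by
  by_contra hc
  push Not at hc
  obtain ⟨a, b, hab⟩ := hna
  rcases (inferInstance : (Subgroup.center T).Normal).eq_bot_or_eq_top with h | h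
  · exact hx ((Subgroup.eq_bot_iff_forall _).1 h x (Subgroup.mem_center_iff.2 fun g => (hc g).symm))
  · exact hab (Subgroup.mem_center_iff.1 (h ▸ Subgroup.mem_top b : b ∈ Subgroup.center T) a)

omit [IsSimpleGroup T] in
theorem four_le_card [Finite T] (hna : ∃ a b : T, a * b ≠ b * a) : 4 ≤ Nat.card T := by
  classical
  haveI := Fintype.ofFinite T
  obtain ⟨a, b, hab⟩ := hna
  have ha : a ≠ 1 := by rintro rfl; simp at hab
  have hb : b ≠ 1 := by rintro rfl; simp at hab
  have h1 : a ≠ b := by rintro rfl; exact hab rfl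
  have h2 : a * b ≠ 1 := fun e => hab (by rw [e, eq_inv_of_mul_eq_one_right e, inv_mul_cancel])
  have h : ({1, a, b, a * b} : Finset T).card = 4 := by
    simp [ha.symm, hb.symm, h1, h2.symm, ha, hb]
  rw [Nat.card_eq_fintype_card, ← h]
  exact card_le_univ _

theorem eq_top_of_surj {A : Type*} [Group A] (π : A →* T) (hπ : Function.Surjective π)
    (M : Subgroup A) [M.Normal] {m : A} (hm : m ∈ M) (h1 : π m ≠ 1) (t : T) :
    ∃ x ∈ M, π x = t := by
  rcases ((inferInstance : M.Normal).map π hπ).eq_bot_or_eq_top with h | h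
  · exact absurd ((Subgroup.eq_bot_iff_forall _).1 h _ ⟨m, hm, rfl⟩) h1
  · exact (h ▸ Subgroup.mem_top t : t ∈ M.map π)

variable [DecidableEq ι]

theorem mulSingle_mem_of_normal (hna : ∃ a b : T, a * b ≠ b * a) {M : Subgroup (ι → T)}
    (hM : M.Normal) {x : ι → T} (hx : x ∈ M) {i : ι} (hi : x i ≠ 1) (u : T) :
    Pi.mulSingle i u ∈ M := by
  obtain ⟨t, ht⟩ := exists_not_commute hna hi
  have hc : (Pi.mulSingle i (x i * t * (x i)⁻¹ * t⁻¹) : ι → T) ∈ M := by
    have : (Pi.mulSingle i (x i * t * (x i)⁻¹ * t⁻¹) : ι → T) =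
        x * (Pi.mulSingle i t * x⁻¹ * (Pi.mulSingle i t)⁻¹) := by
      funext l
      rcases eq_or_ne l i with rfl | hl <;> simp [*, mul_assoc]
    rw [this]
    exact M.mul_mem hx (hM.conj_mem _ (M.inv_mem hx) _)
  have hne : x i * t * (x i)⁻¹ * t⁻¹ ≠ 1 := fun e => ht (by
    calc x i * t = (x i * t * (x i)⁻¹ * t⁻¹) * (t * x i) := by group
      _ = t * x i := by rw [e, one_mul])
  haveI := hM
  rcases (Subgroup.Normal.comap hM (MonoidHom.mulSingle (fun _ : ι => T) i)).eq_bot_or_eq_top
    with h | h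
  · exact absurd ((Subgroup.eq_bot_iff_forall _).1 h _ hc) hne
  · exact (h ▸ Subgroup.mem_top u :
      u ∈ M.comap (MonoidHom.mulSingle (fun _ : ι => T) i))

omit [IsSimpleGroup T] in
theorem range_mulSingle_normal (i : ι) :
    (MonoidHom.mulSingle (fun _ : ι => T) i).range.Normal := ⟨by
  rintro _ ⟨t, rfl⟩ g
  refine ⟨g i * t * (g i)⁻¹, ?_⟩
  funext l
  rcases eq_or_ne l i with rfl | hl <;> simp [*]⟩

/-- Automorphisms of a power of a nonabelian simple group permute the factors. -/
theorem exists_perm [Finite ι] (hna : ∃ a b : T, a * b ≠ b * a) (α : (ι → T) ≃* (ι → T)) :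
    ∃ σ : ι ≃ ι, ∃ θ : ι → T →* T, (∀ i, Function.Bijective (θ i)) ∧
      ∀ (x : ι → T) i, α x (σ i) = θ i (x i) := by
  obtain ⟨t0, ht0⟩ := exists_ne (1 : T)
  have key : ∀ i, ∃ j, (∀ t, ∀ l, l ≠ j → α (Pi.mulSingle i t) l = 1) ∧
      ∀ u, ∃ t, α (Pi.mulSingle i t) = Pi.mulSingle j u := by
    intro i
    have h1 : α (Pi.mulSingle i t0) ≠ 1 := by simpa using ht0
    obtain ⟨j, hj⟩ : ∃ j, α (Pi.mulSingle i t0) j ≠ 1 := by
      by_contra hc
      push Not at hc
      exact h1 (funext hc)
    have hM : ((MonoidHom.mulSingle (fun _ : ι => T) i).range.map α.toMonoidHom).Normal :=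
      (range_mulSingle_normal i).map _ α.surjective
    have onto : ∀ u, ∃ t, α (Pi.mulSingle i t) = Pi.mulSingle j u := by
      intro u
      obtain ⟨_, ⟨t, rfl⟩, ht⟩ := mulSingle_mem_of_normal hna hM
        (x := α (Pi.mulSingle i t0)) ⟨_, ⟨t0, rfl⟩, rfl⟩ hj u
      exact ⟨t, ht⟩
    refine ⟨j, fun t l hl => ?_, onto⟩
    obtain ⟨s, hs⟩ := onto t0
    have hs1 : s ≠ 1 := by
      rintro rfl
      exact ht0 (by simpa using congrFun hs.symm j)
    have hsmem : (Pi.mulSingle i s : ι → T) ∈
        (MonoidHom.mulSingle (fun _ : ι => T) j).range.comap α.toMonoidHom := ⟨t0, hs.symm⟩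
    obtain ⟨u, hu⟩ : Pi.mulSingle i t ∈
        (MonoidHom.mulSingle (fun _ : ι => T) j).range.comap α.toMonoidHom :=
      mulSingle_mem_of_normal hna ((range_mulSingle_normal j).comap _)
        hsmem (i := i) (by simpa using hs1) t
    have := congrFun hu l
    simp [hl] at this
    exact this.symm
  choose j h1 h2 using key
  have hinj : Function.Injective j := by
    intro i i' e
    by_contra hne
    obtain ⟨t, ht⟩ := h2 i t0
    obtain ⟨t', ht'⟩ := h2 i' t0
    have := α.injective (ht.trans (e ▸ ht'.symm))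
    have h3 := congrFun this i
    simp [hne] at h3
    subst h3
    exact ht0 (by simpa using congrFun ht.symm (j i))
  let σ : ι ≃ ι := Equiv.ofBijective j (Finite.injective_iff_bijective.1 hinj)
  let θ : ι → T →* T := fun i =>
    (Pi.evalMonoidHom (fun _ : ι => T) (j i)).comp
      (α.toMonoidHom.comp (MonoidHom.mulSingle (fun _ : ι => T) i))
  refine ⟨σ, θ, fun i => ⟨(injective_iff_map_eq_one _).2 fun t ht => ?_, fun u => ?_⟩, fun x i => ?_⟩
  · have : α (Pi.mulSingle i t) = 1 := funext fun l => by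
      rcases eq_or_ne l (j i) with rfl | hl
      · exact ht
      · exact h1 i t l hl
    rw [map_eq_one_iff _ α.injective] at this
    simpa using congrFun this i
  · obtain ⟨t, ht⟩ := h2 i u
    exact ⟨t, by simpa [θ] using congrFun ht (j i)⟩
  · let f : (ι → T) →* T := (Pi.evalMonoidHom (fun _ : ι => T) (j i)).comp α.toMonoidHom
    let g : (ι → T) →* T := (θ i).comp (Pi.evalMonoidHom (fun _ : ι => T) i)
    have : x ∈ f.eqLocus g := by
      apply Subgroup.pi_mem_of_mulSingle_mem
      intro l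
      show α (Pi.mulSingle l (x l)) (j i) = θ i ((Pi.mulSingle l (x l) : ι → T) i)
      rcases eq_or_ne l i with rfl | hl
      · rw [Pi.mulSingle_eq_same]; rfl
      · rw [Pi.mulSingle_eq_of_ne hl.symm, map_one]
        exact h1 l _ _ fun e => hl (hinj e).symm
    exact this

omit [IsSimpleGroup T] [DecidableEq ι] in
/-- Number of nontrivial coordinates. -/
noncomputable def wt [Fintype ι] (x : ι → T) : ℕ :=
  letI := Classical.decEq T; (univ.filter fun i => x i ≠ 1).card

theorem wt_map [Fintype ι] (hna : ∃ a b : T, a * b ≠ b * a) (α : (ι → T) ≃* (ι → T))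
    (x : ι → T) : wt (α x) = wt x := by
  obtain ⟨σ, θ, hθ, h⟩ := exists_perm hna α
  unfold wt
  refine (card_equiv σ fun i => ?_).symm
  simp [h, (hθ i).1.eq_iff' (map_one _)]

omit [DecidableEq ι] in
theorem card_le_cl [Finite ι] [Finite T] {A : Subgroup (ι → T)} (R : Finset ι)
    (hsep : ∀ R' ⊆ R, ∀ i ∈ R, i ∉ R' → ∃ a ∈ A, (∀ j ∈ R', a j = 1) ∧ a i ≠ 1) :
    R.card ≤ cl A := by
  classical
  let M : Finset ι → Subgroup (ι → T) := fun R' =>
    { carrier := {a | a ∈ A ∧ ∀ j ∈ R', a j = 1}
      one_mem' := ⟨A.one_mem, fun _ _ => rfl⟩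
      mul_mem' := fun ha hb => ⟨A.mul_mem ha.1 hb.1, fun j hj => by simp [ha.2 j hj, hb.2 j hj]⟩
      inv_mem' := fun ha => ⟨A.inv_mem ha.1, fun j hj => by simp [ha.2 j hj]⟩ }
  have main : ∀ R' ⊆ R, ∀ l, Ser (M R') l → Ser A (l + R'.card) := by
    intro R' hR'
    induction R' using Finset.induction_on with
    | empty =>
      intro l hl
      simpa using hl.cast (K := A) (le_antisymm (fun a ha => ha.1)
        (fun a ha => ⟨ha, by simp⟩))
    | @insert i S hiS ih =>
      intro l hl
      have hS : S ⊆ R := (subset_insert _ _).trans hR'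
      have hle : M (insert i S) ≤ M S := fun a ha => ⟨ha.1, fun j hj => ha.2 j (mem_insert_of_mem hj)⟩
      obtain ⟨a, haA, haS, hai⟩ := hsep S hS i (hR' (mem_insert_self _ _)) hiS
      have hlt : M (insert i S) < M S := hle.lt_of_ne fun e =>
        hai ((e.ge (show a ∈ M S from ⟨haA, haS⟩)).2 i (mem_insert_self _ _))
      have hn : ∀ k ∈ M S, ∀ x ∈ M (insert i S), k * x * k⁻¹ ∈ M (insert i S) := fun k hk x hx =>
        ⟨A.mul_mem (A.mul_mem hk.1 hx.1) (A.inv_mem hk.1), fun j hj => by simp [hx.2 j hj]⟩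
      have := ih hS _ (Ser.step hl hlt hn)
      rwa [card_insert_of_notMem hiS, Nat.add_comm S.card, ← Nat.add_assoc]
  obtain ⟨l, hl⟩ := exists_ser (M R)
  have := le_cl_sub (main R subset_rfl l hl)
  omega

omit [DecidableEq ι] [IsSimpleGroup T] in
theorem exists_spread [Finite T] (hT : 4 ≤ Nat.card T) (s : Finset ι) :
    ∃ v : ι → T, ∀ (t : T) (d : DecidablePred fun i => v i ≠ t),
      3 * s.card ≤ 3 + 4 * (@Finset.filter _ (fun i => v i ≠ t) d s).card := by
  classical
  let N := Nat.card T
  let g : T ≃ Fin N := Finite.equivFin T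
  let e : {i // i ∈ s} ≃ Fin s.card := s.equivFin
  let v : ι → T := fun i => if h : i ∈ s then
    g.symm ⟨(e ⟨i, h⟩).val % N, Nat.mod_lt _ (by omega)⟩ else 1
  refine ⟨v, fun t d => ?_⟩
  have hfib : (s.filter fun i => v i = t).card ≤ (s.card - 1) / N + 1 := by
    rw [← card_range ((s.card - 1) / N + 1)]
    refine card_le_card_of_injOn (fun i => if h : i ∈ s then (e ⟨i, h⟩).val / N else 0)
      (fun i hi => ?_) fun a ha b hb hab => ?_
    · simp only [coe_filter, Set.mem_setOf_eq] at hi
      simp only [coe_range, Set.mem_Iio, dif_pos hi.1]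
      have := (e ⟨i, hi.1⟩).isLt
      exact Nat.lt_succ_of_le (Nat.div_le_div_right (by omega))
    · simp only [coe_filter, Set.mem_setOf_eq] at ha hb
      simp only [dif_pos ha.1, dif_pos hb.1] at hab
      have h2 := ha.2.trans hb.2.symm
      simp only [v, dif_pos ha.1, dif_pos hb.1, EmbeddingLike.apply_eq_iff_eq, Fin.mk.injEq] at h2
      have h3 : (e ⟨a, ha.1⟩).val = (e ⟨b, hb.1⟩).val := by
        rw [← Nat.div_add_mod (e ⟨a, ha.1⟩).val N, hab, h2, Nat.div_add_mod]
      exact congrArg Subtype.val (e.injective (Fin.ext h3))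
  have hsum := card_filter_add_card_filter_not (s := s) (fun i => v i = t)
  have hN : (s.card - 1) / N ≤ (s.card - 1) / 4 := Nat.div_le_div_left hT (by omega)
  have : (@Finset.filter _ (fun i => v i ≠ t) d s) = s.filter fun i => ¬ v i = t := by
    congr 1
  rw [this]
  omega

/-- If `A` is a proper subgroup maximal among subgroups invariant under a set of automorphisms
having no invariant normal subgroups, some coset of `A` has large weight. -/
theorem exists_weight [Fintype ι] [Finite T] (hna : ∃ a b : T, a * b ≠ b * a)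
    (Γ : Set ((ι → T) ≃* (ι → T))) (A : Subgroup (ι → T))
    (hinv : ∀ α ∈ Γ, ∀ x ∈ A, α x ∈ A)
    (hmin : ∀ B : Subgroup (ι → T), B.Normal → (∀ α ∈ Γ, ∀ x ∈ B, α x ∈ B) → B = ⊥ ∨ B = ⊤)
    (hmax : ∀ B : Subgroup (ι → T), A ≤ B → (∀ α ∈ Γ, ∀ x ∈ B, α x ∈ B) → B = A ∨ B = ⊤) :
    ∃ y : ι → T, ∀ a ∈ A, 3 * Fintype.card ι ≤ 3 * cl A + 4 * wt (y * a) := by
  classical
  let π : ι → (A →* T) := fun i => (Pi.evalMonoidHom (fun _ : ι => T) i).comp A.subtype
  let B : Subgroup (ι → T) := Subgroup.pi Set.univ fun i => (π i).range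
  have hAB : A ≤ B := fun a ha i _ => ⟨⟨a, ha⟩, rfl⟩
  have hB : ∀ α ∈ Γ, ∀ x ∈ B, α x ∈ B := by
    intro α hα x hx j _
    obtain ⟨σ, θ, -, h⟩ := exists_perm hna α
    obtain ⟨i, rfl⟩ := σ.surjective j
    obtain ⟨a, ha⟩ := hx i trivial
    refine ⟨⟨α a, hinv α hα a a.2⟩, ?_⟩
    show α (a : ι → T) (σ i) = α x (σ i)
    rw [h, h, ← ha]; rfl
  rcases hmax B hAB hB with hBA | hBT
  · -- `A` is a product of subgroups of the factors
    let S : Set ι := {i | ∀ a ∈ A, (a : ι → T) i = 1}
    let C : Subgroup (ι → T) := Subgroup.pi S fun _ => ⊥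
    have hC : C.Normal := ⟨fun x hx g i hi => by
      show g i * x i * (g i)⁻¹ ∈ (⊥ : Subgroup T)
      have : x i = 1 := Subgroup.mem_bot.1 (hx i hi)
      simp [this]⟩
    have hCinv : ∀ α ∈ Γ, ∀ x ∈ C, α x ∈ C := by
      intro α hα x hx j hj
      obtain ⟨σ, θ, hθ, h⟩ := exists_perm hna α
      obtain ⟨i, rfl⟩ := σ.surjective j
      have hi : i ∈ S := fun a ha => (hθ i).1 (by
        rw [← h, map_one]; exact hj _ (hinv α hα a ha))
      show α x (σ i) ∈ (⊥ : Subgroup T)
      rw [Subgroup.mem_bot, h, Subgroup.mem_bot.1 (hx i hi), map_one]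
    obtain ⟨t0, ht0⟩ := exists_ne (1 : T)
    rcases hmin C hC hCinv with h0 | h0
    · -- `A` is trivial
      have hS : ∀ i, i ∈ S := fun i => by
        by_contra hi
        have : (Pi.mulSingle i t0 : ι → T) ∈ C := fun j hj => by
          show (Pi.mulSingle i t0 : ι → T) j ∈ (⊥ : Subgroup T)
          rw [Subgroup.mem_bot, Pi.mulSingle_eq_of_ne (fun e : j = i => hi (e ▸ hj))]
        rw [h0, Subgroup.mem_bot] at this
        exact ht0 (by simpa using congrFun this i)
      refine ⟨fun _ => t0, fun a ha => ?_⟩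
      have : wt ((fun _ : ι => t0) * a) = Fintype.card ι := by
        unfold wt
        rw [← card_univ]
        congr 1
        refine filter_true_of_mem fun i _ => ?_
        simp [hS i a ha, ht0]
      omega
    · refine ⟨1, fun a _ => ?_⟩
      have hS : ∀ i, i ∉ S := fun i hi => ht0 (by
        have := (h0 ▸ Subgroup.mem_top _ : (fun _ : ι => t0) ∈ C) i hi
        exact Subgroup.mem_bot.1 this)
      have := card_le_cl (A := A) univ fun R' _ i _ hi => by
        obtain ⟨b, hb, hbi⟩ : ∃ b ∈ A, (b : ι → T) i ≠ 1 := by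
          by_contra hc
          push Not at hc
          exact hS i hc
        refine ⟨Pi.mulSingle i (b i), ?_, fun j hj => ?_, by simpa using hbi⟩
        · rw [← hBA]
          intro j _
          rcases eq_or_ne j i with rfl | hji
          · rw [Pi.mulSingle_eq_same]; exact hAB hb j trivial
          · show (Pi.mulSingle i (b i) : ι → T) j ∈ (π j).range
            rw [Pi.mulSingle_eq_of_ne hji]; exact one_mem _
        · exact Pi.mulSingle_eq_of_ne (fun e : j = i => hi (e ▸ hj)) _
      rw [card_univ] at this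
      omega
  · -- all projections are surjective
    have hsur : ∀ i, Function.Surjective (π i) := fun i t => by
      obtain ⟨a, ha⟩ := (hBT ▸ Subgroup.mem_top _ : (fun _ : ι => t) ∈ B) i trivial
      exact ⟨a, ha⟩
    let r : Setoid ι := ⟨fun i j => ∀ a : A, π i a = 1 ↔ π j a = 1,
      fun _ _ => Iff.rfl, fun h a => (h a).symm, fun h h' a => (h a).trans (h' a)⟩
    have sep : ∀ (R' : Finset ι) (i : ι), (∀ j ∈ R', ¬ r j i) →
        ∃ a : A, (∀ j ∈ R', π j a = 1) ∧ π i a ≠ 1 := by
      intro R'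
      induction R' using Finset.induction_on with
      | empty =>
        intro i _
        obtain ⟨t, ht⟩ := exists_ne (1 : T)
        obtain ⟨a, rfl⟩ := hsur i t
        exact ⟨a, by simp, ht⟩
      | @insert s S _ ih =>
        intro i hi
        obtain ⟨m, hm, hmi⟩ := ih i fun j hj => hi j (mem_insert_of_mem hj)
        have hsi := hi s (mem_insert_self _ _)
        obtain ⟨b, hbs, hbi⟩ : ∃ b, π s b = 1 ∧ π i b ≠ 1 := by
          by_contra hc
          push Not at hc
          obtain ⟨c, hc1, hc2⟩ : ∃ c, π i c = 1 ∧ π s c ≠ 1 := by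
            by_contra hd
            push Not at hd
            exact hsi fun a => ⟨hc a, hd a⟩
          obtain ⟨t, ht⟩ := exists_ne (1 : T)
          obtain ⟨a, rfl⟩ := hsur i t
          obtain ⟨c', hc', e⟩ := eq_top_of_surj (π s) (hsur s) (π i).ker
            (MonoidHom.mem_ker.2 hc1) hc2 (π s a)
          apply ht
          have := hc (a * c'⁻¹) (by rw [map_mul, map_inv, e, mul_inv_cancel])
          rwa [map_mul, map_inv, MonoidHom.mem_ker.1 hc', inv_one, mul_one] at this
        obtain ⟨u, hu⟩ := exists_not_commute hna hbi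
        let M : Subgroup A := ⨅ j ∈ S, (π j).ker
        have hM : M.Normal := Subgroup.normal_iInf_normal fun j =>
          Subgroup.normal_iInf_normal fun _ => inferInstance
        have hmM : m ∈ M := by simpa [M, Subgroup.mem_iInf] using hm
        obtain ⟨x, hx, hxu⟩ := eq_top_of_surj (π i) (hsur i) M hmM hmi u
        simp only [M, Subgroup.mem_iInf, MonoidHom.mem_ker] at hx
        refine ⟨b * x * b⁻¹ * x⁻¹, fun j hj => ?_, ?_⟩
        · rcases mem_insert.1 hj with rfl | hj
          · simp [hbs]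
          · simp [hx j hj]
        · rw [map_mul, map_mul, map_mul, map_inv, map_inv, hxu]
          intro e
          apply hu
          calc π i b * u = (π i b * u * (π i b)⁻¹ * u⁻¹) * (u * π i b) := by group
            _ = u * π i b := by rw [e, one_mul]
    let rep : ι → ι := fun i => (Quotient.mk r i).out
    have hrep : ∀ i, r (rep i) i := fun i => Quotient.mk_out (s := r) i
    let R : Finset ι := univ.image rep
    have hR : R.card ≤ cl A := by
      refine card_le_cl R fun R' hR' i hi hiR' => ?_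
      obtain ⟨a, h1, h2⟩ := sep R' i fun j hj hji => hiR' (by
        obtain ⟨i0, -, rfl⟩ := mem_image.1 hi
        obtain ⟨j0, -, rfl⟩ := mem_image.1 (hR' hj)
        have : Quotient.mk r (rep j0) = Quotient.mk r (rep i0) := Quotient.sound hji
        simp only [rep, Quotient.out_eq] at this
        show rep i0 ∈ R'
        rwa [show rep i0 = rep j0 by simp [rep, this]])
      exact ⟨a, a.2, h1, h2⟩
    let f : ι → T → T := fun i t => π i (Classical.choose (hsur (rep i) t))
    have hf : ∀ i (a : A), π i a = f i (π (rep i) a) := by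
      intro i a
      have h1 := Classical.choose_spec (hsur (rep i) (π (rep i) a))
      have h2 := (hrep i (a * (Classical.choose (hsur (rep i) (π (rep i) a)))⁻¹)).1 (by
        rw [map_mul, map_inv, h1, mul_inv_cancel])
      rw [map_mul, map_inv, mul_inv_eq_one] at h2
      exact h2
    choose v hv using fun s : Finset ι => exists_spread (T := T) (four_le_card hna) s
    let F : ι → Finset ι := fun q => univ.filter fun i => rep i = q
    refine ⟨fun i => (f i (v (F (rep i)) i))⁻¹, fun a ha => ?_⟩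
    let y : ι → T := fun i => (f i (v (F (rep i)) i))⁻¹
    have hfinj : ∀ i, Function.Injective (f i) := by
      intro i s t e
      obtain ⟨a1, h1⟩ := hsur (rep i) s
      obtain ⟨a2, h2⟩ := hsur (rep i) t
      subst h1 h2
      rw [← hf, ← hf] at e
      have := (hrep i (a1 * a2⁻¹)).2 (by rw [map_mul, map_inv, e, mul_inv_cancel])
      rwa [map_mul, map_inv, mul_inv_eq_one] at this
    have key : ∀ i, (y * a) i ≠ 1 ↔ v (F (rep i)) i ≠ π (rep i) ⟨a, ha⟩ := by
      intro i
      show (f i (v (F (rep i)) i))⁻¹ * a i ≠ 1 ↔ _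
      rw [not_iff_not, inv_mul_eq_one, show a i = π i ⟨a, ha⟩ from rfl, hf, (hfinj i).eq_iff]
    have hw : wt (y * a) =
        ∑ q ∈ R, ((F q).filter fun i => v (F q) i ≠ π q ⟨a, ha⟩).card := by
      unfold wt
      rw [card_eq_sum_card_fiberwise (f := rep) (t := R) fun i _ => mem_image_of_mem _ (mem_univ i)]
      refine sum_congr rfl fun q _ => congrArg card ?_
      ext i
      simp only [mem_filter, mem_univ, true_and, F]
      constructor
      · rintro ⟨h1, rfl⟩; exact ⟨rfl, (key i).1 h1⟩
      · rintro ⟨rfl, h1⟩; exact ⟨(key i).2 h1, rfl⟩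
    have hk : Fintype.card ι = ∑ q ∈ R, (F q).card := by
      rw [← card_univ, card_eq_sum_card_fiberwise (f := rep) (t := R) fun i _ =>
        mem_image_of_mem _ (mem_univ i)]
    have hsum : ∑ q ∈ R, 3 * (F q).card ≤
        ∑ q ∈ R, (3 + 4 * ((F q).filter fun i => v (F q) i ≠ π q ⟨a, ha⟩).card) :=
      sum_le_sum fun q _ => hv (F q) (π q ⟨a, ha⟩) _
    rw [sum_add_distrib, ← mul_sum, ← mul_sum, sum_const, smul_eq_mul, ← hw, ← hk] at hsum
    show _ ≤ 3 * cl A + 4 * wt (y * a)
    omega

theorem cl_simple_le_one [Finite T] : cl T ≤ 1 := by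
  have key : ∀ {H : Subgroup T} {l : ℕ}, Ser H l → H = ⊤ → l ≤ 1 := by
    intro H l h e
    cases h with
    | bot => exact Nat.zero_le _
    | step h hlt hn =>
      rename_i H' l'
      subst e
      have hn' : H'.Normal := ⟨fun x hx g => hn g trivial x hx⟩
      have : H' = ⊥ := hn'.eq_bot_or_eq_top.resolve_right hlt.ne
      subst this
      have := h.two_pow_le
      rw [Subgroup.card_bot] at this
      rcases Nat.eq_zero_or_pos l' with h0 | h0
      · omega
      · have := Nat.pow_le_pow_right two_pos h0; omega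
  exact key (ser_cl T) rfl

omit [DecidableEq ι] in
theorem cl_pi_le [Finite T] : ∀ k : ℕ, cl (Fin k → T) ≤ k
  | 0 => by
    have := two_pow_cl_le (Fin 0 → T)
    rw [Nat.card_unique] at this
    by_contra hc
    have := Nat.pow_le_pow_right two_pos (Nat.one_le_iff_ne_zero.2 (by omega : cl (Fin 0 → T) ≠ 0))
    omega
  | k + 1 => by
    let π : (Fin (k + 1) → T) →* T := Pi.evalMonoidHom (fun _ => T) 0
    let g : π.ker →* (Fin k → T) :=
      MonoidHom.mk' (fun x i => (x : Fin (k + 1) → T) i.succ) fun _ _ => rfl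
    have hg : Function.Bijective g := by
      constructor
      · intro x y e
        apply Subtype.ext
        funext i
        refine Fin.cases ?_ (fun i => congrFun e i) i
        exact (MonoidHom.mem_ker.1 x.2).trans (MonoidHom.mem_ker.1 y.2).symm
      · exact fun x => ⟨⟨Fin.cons 1 x, MonoidHom.mem_ker.2 (by simp [π])⟩, funext fun i => by simp [g]⟩
    have h1 := cl_le_add π
    rw [cl_congr (MulEquiv.ofBijective g hg),
      cl_congr ((MulEquiv.subgroupCongr (MonoidHom.range_eq_top.2
        fun t => ⟨fun _ => t, rfl⟩ : π.range = ⊤)).trans Subgroup.topEquiv)] at h1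
    have := cl_pi_le k
    have := cl_simple_le_one (T := T)
    omega

end CfsgLib.Perm.CompLength
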