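import Cfsg.Agent.Lib.SymMax.CharSimple
import Cfsg.Agent.Lib.Perm.CompLength.Pi
import Cfsg.Agent.Lib.Perm.CompLength.Abelian

/-! `3 * cl G + 4 * r ≤ 4 * n` for a group acting faithfully on `n` points with `r` orbits. -/

namespace CfsgLib.Perm.CompLength

open MulAction

/-- The number of orbits. -/
noncomputable def nOrb (G X : Type*) [Group G] [MulAction G X] : ℕ :=
  Nat.card (Quotient (orbitRel G X))

theorem card_le_nOrb {G X Y : Type*} [Group G] [MulAction G X] [Finite X] (f : X → Y)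
    (hf : ∀ (g : G) (x : X), f (g • x) = f x) (hs : Function.Surjective f) :
    Nat.card Y ≤ nOrb G X := by
  refine Nat.card_le_card_of_surjective
    (Quotient.lift f fun x y h => ?_ : Quotient (orbitRel G X) → Y) fun y => ?_
  · obtain ⟨g, rfl⟩ := h
    exact hf g y
  · obtain ⟨x, rfl⟩ := hs y
    exact ⟨Quotient.mk _ x, rfl⟩

theorem nOrb_le_card {G X : Type*} [Group G] [MulAction G X] [Fintype X] :
    nOrb G X ≤ Fintype.card X := by
  rw [← Nat.card_eq_fintype_card]
  exact Nat.card_le_card_of_surjective _ Quotient.mk_surjective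

/-- The inductive claim. -/
def Bound (n : ℕ) : Prop :=
  ∀ G : Subgroup (Equiv.Perm (Fin n)), 3 * cl G + 4 * nOrb G (Fin n) ≤ 4 * n

theorem image_bound {G Ω : Type*} [Group G] [MulAction G Ω] [Fintype Ω]
    (h : Bound (Fintype.card Ω)) :
    3 * cl (toPermHom G Ω).range + 4 * nOrb G Ω ≤ 4 * Fintype.card Ω := by
  let e := Fintype.equivFin Ω
  let ψ : Equiv.Perm Ω →* Equiv.Perm (Fin (Fintype.card Ω)) := e.permCongrHom.toMonoidHom
  have hψ : Function.Injective ψ := e.permCongrHom.injective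
  let S := (toPermHom G Ω).range.map ψ
  have h1 : cl (toPermHom G Ω).range = cl S :=
    cl_congr ((toPermHom G Ω).range.equivMapOfInjective ψ hψ)
  have h2 : nOrb G Ω ≤ nOrb S (Fin (Fintype.card Ω)) := by
    refine card_le_nOrb (fun i => Quotient.mk (orbitRel G Ω) (e.symm i)) ?_ fun q => ?_
    · rintro ⟨_, _, ⟨g, rfl⟩, rfl⟩ i
      refine Quotient.sound ⟨g, ?_⟩
      show g • e.symm i = e.symm (e.permCongr (toPerm g) i)
      simp
    · obtain ⟨x, rfl⟩ := Quotient.mk_surjective q
      exact ⟨e x, by simp⟩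
  have := h S
  omega

theorem faithful_bound {G Ω : Type*} [Group G] [Finite G] [MulAction G Ω] [FaithfulSMul G Ω]
    [Fintype Ω] (h : Bound (Fintype.card Ω)) :
    3 * cl G + 4 * nOrb G Ω ≤ 4 * Fintype.card Ω := by
  have e : cl G = cl (toPermHom G Ω).range :=
    cl_congr (MonoidHom.ofInjective (f := toPermHom G Ω) MulAction.toPerm_injective)
  rw [e]
  exact image_bound h

variable {G Ω : Type*} [Group G] [Finite G] [MulAction G Ω] [FaithfulSMul G Ω] [Fintype Ω]

theorem intrans (IH : ∀ m < Fintype.card Ω, Bound m) (hr : 2 ≤ nOrb G Ω) :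
    3 * cl G + 4 * nOrb G Ω ≤ 4 * Fintype.card Ω := by
  classical
  haveI : Nontrivial (Quotient (orbitRel G Ω)) := by
    rw [← Finite.one_lt_card_iff_nontrivial]; exact hr
  obtain ⟨q0, q1, hq⟩ := exists_pair_ne (Quotient (orbitRel G Ω))
  have hmk : ∀ (g : G) (x : Ω),
      Quotient.mk (orbitRel G Ω) (g • x) = Quotient.mk (orbitRel G Ω) x :=
    fun g x => Quotient.sound ⟨g, rfl⟩
  let D : SubMulAction G Ω :=
    ⟨{x | Quotient.mk (orbitRel G Ω) x = q0}, fun g x hx => (hmk g x).trans hx⟩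
  let C : SubMulAction G Ω :=
    ⟨{x | Quotient.mk (orbitRel G Ω) x ≠ q0}, fun g x hx e => hx ((hmk g x).symm.trans e)⟩
  letI : Fintype D := Fintype.ofFinite _
  letI : Fintype C := Fintype.ofFinite _
  have hDC : Fintype.card D + Fintype.card C = Fintype.card Ω := by
    rw [← Fintype.card_sum]
    exact Fintype.card_congr (Equiv.sumCompl fun x => Quotient.mk (orbitRel G Ω) x = q0)
  obtain ⟨x0, hx0⟩ := Quotient.mk_surjective q0
  obtain ⟨x1, hx1⟩ := Quotient.mk_surjective q1
  have hD : 0 < Fintype.card D := Fintype.card_pos_iff.2 ⟨⟨x0, hx0⟩⟩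
  have hC : 0 < Fintype.card C := Fintype.card_pos_iff.2 ⟨⟨x1, fun e => hq (e.symm.trans hx1)⟩⟩
  let K := (toPermHom G D).ker
  haveI : FaithfulSMul K C := ⟨fun {g h} e => by
    refine Subtype.ext (FaithfulSMul.eq_of_smul_eq_smul (α := Ω) fun x => ?_)
    by_cases hx : Quotient.mk (orbitRel G Ω) x = q0
    · have h1 := congrArg Subtype.val (Equiv.congr_fun (MonoidHom.mem_ker.1 g.2) ⟨x, hx⟩)
      have h2 := congrArg Subtype.val (Equiv.congr_fun (MonoidHom.mem_ker.1 h.2) ⟨x, hx⟩)
      exact h1.trans h2.symm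
    · exact congrArg Subtype.val (e ⟨x, hx⟩)⟩
  have h1 := image_bound (G := G) (Ω := D) (IH _ (by omega))
  have h2 := faithful_bound (G := K) (Ω := C) (IH _ (by omega))
  have h3 := cl_le_add (toPermHom G D)
  have h4 : 1 ≤ nOrb G D := by
    haveI : Nonempty (Quotient (orbitRel G D)) := ⟨Quotient.mk _ ⟨x0, hx0⟩⟩
    exact Nat.one_le_iff_ne_zero.2 Nat.card_pos.ne'
  have h5 : Nat.card {q : Quotient (orbitRel G Ω) // q ≠ q0} ≤ nOrb K C :=
    card_le_nOrb (fun x => ⟨Quotient.mk _ x.1, x.2⟩) (fun k x => Subtype.ext (hmk k.1 x.1))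
      fun ⟨q, hq⟩ => by
        obtain ⟨x, rfl⟩ := Quotient.mk_surjective q
        exact ⟨⟨x, hq⟩, rfl⟩
  haveI := Fintype.ofFinite (Quotient (orbitRel G Ω))
  rw [Nat.card_eq_fintype_card, Fintype.card_subtype_compl, Fintype.card_subtype_eq,
    ← Nat.card_eq_fintype_card] at h5
  have : nOrb G Ω - 1 ≤ nOrb K C := h5
  change 3 * cl K + _ ≤ _ at h2
  change cl G ≤ cl K + _ at h3
  omega

variable [IsPretransitive G Ω]

theorem imprim (IH : ∀ m < Fintype.card Ω, Bound m) (a : Ω) (M : Subgroup G)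
    (hM1 : stabilizer G a < M) (hM2 : M ≠ ⊤) : 3 * cl G + 4 ≤ 4 * Fintype.card Ω := by
  classical
  letI : Fintype (G ⧸ M) := Fintype.ofFinite _
  have hn : (stabilizer G a).index = Fintype.card Ω := by
    rw [← Nat.card_eq_fintype_card, index_stabilizer_of_transitive]
  have hb : Fintype.card (G ⧸ M) = M.index := by rw [← Nat.card_eq_fintype_card]; rfl
  have hb2 : 2 ≤ M.index := by
    have := Subgroup.index_ne_zero_of_finite (H := M)
    have : M.index ≠ 1 := fun e => hM2 (Subgroup.index_eq_one.1 e)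
    omega
  have hblt : M.index < Fintype.card Ω := hn ▸ Subgroup.index_strictAnti hM1
  choose t ht using fun x : Ω => exists_smul_eq G a x
  let f : Ω → G ⧸ M := fun x => QuotientGroup.mk (t x)
  have hf : ∀ (g : G) x, f (g • x) = g • f x := by
    intro g x
    show QuotientGroup.mk (t (g • x)) = (QuotientGroup.mk (g * t x) : G ⧸ M)
    rw [QuotientGroup.eq]
    exact hM1.le (show ((t (g • x))⁻¹ * (g * t x)) • a = a by
      rw [mul_smul, mul_smul, ht, inv_smul_eq_iff, ht])
  let K := (toPermHom G (G ⧸ M)).ker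
  have h5 : Fintype.card (G ⧸ M) ≤ nOrb K Ω := by
    rw [← Nat.card_eq_fintype_card]
    refine card_le_nOrb f (fun k x => ?_) fun q => ?_
    · show f ((k : G) • x) = f x
      rw [hf]
      exact Equiv.congr_fun (MonoidHom.mem_ker.1 k.2) (f x)
    · obtain ⟨g, rfl⟩ := Quotient.mk_surjective q
      refine ⟨g • a, ?_⟩
      show QuotientGroup.mk (t (g • a)) = (QuotientGroup.mk g : G ⧸ M)
      rw [QuotientGroup.eq]
      exact hM1.le (show ((t (g • a))⁻¹ * g) • a = a by rw [mul_smul, inv_smul_eq_iff, ht])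
  haveI : FaithfulSMul K Ω := ⟨fun {g h} e =>
    Subtype.ext (FaithfulSMul.eq_of_smul_eq_smul (α := Ω) e)⟩
  have h2 := intrans (G := K) IH (by omega)
  have h1 := image_bound (G := G) (Ω := G ⧸ M) (IH _ (by omega))
  have h3 := cl_le_add (toPermHom G (G ⧸ M))
  have h4 : 1 ≤ nOrb G (G ⧸ M) := by
    haveI : Nonempty (Quotient (orbitRel G (G ⧸ M))) := ⟨Quotient.mk _ (QuotientGroup.mk 1)⟩
    exact Nat.one_le_iff_ne_zero.2 Nat.card_pos.ne'
  change cl G ≤ cl K + _ at h3
  omega

theorem prim (IH : ∀ m < Fintype.card Ω, Bound m) [Nontrivial Ω] (a : Ω)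
    (hcoat : IsCoatom (stabilizer G a)) : 3 * cl G + 4 ≤ 4 * Fintype.card Ω := by
  classical
  have hn : 2 ≤ Fintype.card Ω := Fintype.one_lt_card
  haveI : Nontrivial G := by
    by_contra hc
    rw [not_nontrivial_iff_subsingleton] at hc
    exact hcoat.1 (Subgroup.ext fun x => by simp [Subsingleton.elim x 1])
  obtain ⟨N, hN⟩ := (Set.toFinite {M : Subgroup G | M.Normal ∧ M ≠ ⊥}).exists_minimal
    ⟨⊤, inferInstance, top_ne_bot⟩
  haveI hNn : N.Normal := hN.1.1
  have hmin : ∀ M : Subgroup G, M.Normal → M ≤ N → M = ⊥ ∨ M = N := fun M hM hle => by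
    by_cases hb : M = ⊥
    · exact Or.inl hb
    · exact Or.inr (le_antisymm hle (hN.2 ⟨hM, hb⟩ hle))
  set H := stabilizer G a with hH
  have hNH : ¬ N ≤ H := by
    intro hle
    refine hN.1.2 ((Subgroup.eq_bot_iff_forall _).2 fun x hx => ?_)
    refine FaithfulSMul.eq_of_smul_eq_smul (α := Ω) fun b => ?_
    obtain ⟨g, rfl⟩ := exists_smul_eq G a b
    have h1 := hle (hNn.conj_mem x hx g⁻¹)
    rw [inv_inv, hH, mem_stabilizer_iff, mul_smul, mul_smul, inv_smul_eq_iff] at h1
    rw [one_smul]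
    exact h1
  have hsup : N ⊔ H = ⊤ := hcoat.2 _ (lt_of_le_of_ne le_sup_right fun e => hNH (e.symm ▸ le_sup_left))
  have hdec : ∀ g : G, ∃ x ∈ N, ∃ h ∈ H, x * h = g := fun g =>
    Subgroup.mem_sup_of_normal_left.1 (hsup ▸ Subgroup.mem_top g)
  have htr : ∀ b : Ω, ∃ x ∈ N, x • a = b := fun b => by
    obtain ⟨g, rfl⟩ := exists_smul_eq G a b
    obtain ⟨x, hx, h, hh, rfl⟩ := hdec g
    exact ⟨x, hx, by rw [mul_smul, show h • a = a from hh]⟩
  -- reduce to `N` and the stabiliser
  let q := QuotientGroup.mk' N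
  let f : H →* G ⧸ N := q.comp H.subtype
  have hfr : f.range = q.range := by
    refine le_antisymm (by rintro _ ⟨h, rfl⟩; exact ⟨h.1, rfl⟩) ?_
    rintro _ ⟨g, rfl⟩
    obtain ⟨x, hx, h, hh, rfl⟩ := hdec g
    refine ⟨⟨h, hh⟩, ?_⟩
    show QuotientGroup.mk' N h = QuotientGroup.mk' N (x * h)
    rw [map_mul, show QuotientGroup.mk' N x = 1 from (QuotientGroup.eq_one_iff x).2 hx, one_mul]
  have c1 := cl_le_add q
  rw [cl_congr (MulEquiv.subgroupCongr (QuotientGroup.ker_mk' N))] at c1
  have c2 := add_le_cl f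
  rw [cl_congr (MulEquiv.subgroupCongr hfr)] at c2
  by_cases hab : ∀ x ∈ N, ∀ y ∈ N, x * y = y * x
  · have hreg : N ⊓ H = ⊥ := by
      refine (hmin _ ⟨fun x hx g => ?_⟩ inf_le_left).resolve_right fun e =>
        hNH (e ▸ inf_le_right)
      obtain ⟨y, hy, h, hh, rfl⟩ := hdec g
      have hk : h * x * h⁻¹ ∈ N ⊓ H :=
        ⟨hNn.conj_mem _ hx.1 h, H.mul_mem (H.mul_mem hh hx.2) (H.inv_mem hh)⟩
      rwa [show y * h * x * (y * h)⁻¹ = y * (h * x * h⁻¹) * y⁻¹ by group,
        hab y hy _ hk.1, mul_inv_cancel_right]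
    have h := abelian_step N hab hmin hN.1.2 a htr hreg
    rw [← hH] at h
    omega
  -- nonabelian socle
  haveI : Nontrivial N := (Subgroup.nontrivial_iff_ne_bot N).2 hN.1.2
  obtain ⟨T, k, hT, -, ⟨e⟩⟩ :=
    CfsgLib.SymMax.CharSimple.exists_pow (CfsgLib.SymMax.CharSimple.charSimple_of_minimal hmin)
  haveI := hT
  have hna : ∃ s t : T, s * t ≠ t * s := by
    by_contra hc
    push Not at hc
    exact hab fun x hx y hy => congrArg Subtype.val
      (e.injective (funext fun i => by rw [map_mul, map_mul]; exact hc _ _) :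
        (⟨x, hx⟩ * ⟨y, hy⟩ : N) = ⟨y, hy⟩ * ⟨x, hx⟩)
  let conjH : H → ((Fin k → T) ≃* (Fin k → T)) :=
    fun h => (e.symm.trans (MulAut.conjNormal (h : G))).trans e
  let A : Subgroup (Fin k → T) := (H.subgroupOf N).map e.toMonoidHom
  have hmemA : ∀ x : N, e x ∈ A ↔ (x : G) ∈ H := fun x =>
    Subgroup.mem_map_iff_mem (f := e.toMonoidHom) e.injective
  have hconj : ∀ (h : H) (x : N), conjH h (e x) = e (MulAut.conjNormal (h : G) x) := fun h x => by
    simp [conjH]
  -- a subgroup of `Fin k → T` as a subgroup of `G`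
  let up : Subgroup (Fin k → T) → Subgroup G :=
    fun B => (B.comap e.toMonoidHom).map N.subtype
  have hup : ∀ B (x : N), (x : G) ∈ up B ↔ e x ∈ B := fun B x =>
    Subgroup.mem_map_iff_mem N.subtype_injective
  have hupN : ∀ B, up B ≤ N := fun B => Subgroup.map_subtype_le _
  have hupH : ∀ B : Subgroup (Fin k → T), (∀ α ∈ Set.range conjH, ∀ x ∈ B, α x ∈ B) →
      ∀ h ∈ H, ∀ g ∈ up B, h * g * h⁻¹ ∈ up B := by
    intro B hB h hh g hg
    have hgN := hupN B hg
    have h1 := hB _ ⟨⟨h, hh⟩, rfl⟩ _ ((hup B ⟨g, hgN⟩).1 hg)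
    rw [hconj] at h1
    exact (hup B _).2 h1
  have hΓA : ∀ α ∈ Set.range conjH, ∀ x ∈ A, α x ∈ A := by
    rintro _ ⟨h, rfl⟩ x hx
    obtain ⟨x, rfl⟩ := e.surjective x
    rw [hconj, hmemA]
    show (h : G) * x * (h : G)⁻¹ ∈ H
    exact H.mul_mem (H.mul_mem h.2 ((hmemA x).1 hx)) (H.inv_mem h.2)
  obtain ⟨y, hy⟩ := exists_weight hna (Set.range conjH) A hΓA
    (fun B hBn hB => by
      have hn' : (up B).Normal := ⟨fun g hg z => by
        obtain ⟨x, hx, h, hh, rfl⟩ := hdec z
        have h1 := hupH B hB h hh g hg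
        have h2 := hBn.conj_mem _ ((hup B ⟨_, hupN B h1⟩).1 h1) (e ⟨x, hx⟩)
        rw [← map_inv, ← map_mul, ← map_mul, ← hup] at h2
        rwa [show x * h * g * (x * h)⁻¹ = x * (h * g * h⁻¹) * x⁻¹ by group]⟩
      refine (hmin _ hn' (hupN B)).imp (fun h0 => ?_) fun h0 => ?_
      · rw [Subgroup.eq_bot_iff_forall]
        intro z hz
        obtain ⟨z, rfl⟩ := e.surjective z
        have := (hup B z).2 hz
        rw [h0, Subgroup.mem_bot, OneMemClass.coe_eq_one] at this
        rw [this, map_one]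
      · rw [eq_top_iff]
        intro z _
        obtain ⟨z, rfl⟩ := e.surjective z
        exact (hup B z).1 (h0.ge z.2))
    (fun B hAB hB => by
      let M : Subgroup G :=
        { carrier := {g | ∃ b ∈ up B, ∃ h ∈ H, b * h = g}
          one_mem' := ⟨1, one_mem _, 1, one_mem _, one_mul _⟩
          mul_mem' := by
            rintro _ _ ⟨b, hb, h, hh, rfl⟩ ⟨b', hb', h', hh', rfl⟩
            exact ⟨b * (h * b' * h⁻¹), mul_mem hb (hupH B hB h hh b' hb'), h * h',
              mul_mem hh hh', by group⟩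
          inv_mem' := by
            rintro _ ⟨b, hb, h, hh, rfl⟩
            exact ⟨h⁻¹ * b⁻¹ * h⁻¹⁻¹, hupH B hB h⁻¹ (inv_mem hh) b⁻¹ (inv_mem hb), h⁻¹,
              inv_mem hh, by group⟩ }
      by_cases hM : M = H
      · left
        refine le_antisymm (fun z hz => ?_) hAB
        obtain ⟨z, rfl⟩ := e.surjective z
        refine (hmemA z).2 ?_
        rw [← hM]
        exact ⟨z, (hup B z).2 hz, 1, one_mem _, mul_one _⟩
      · right
        have hHM : H < M := lt_of_le_of_ne
          (fun h hh => ⟨1, one_mem _, h, hh, one_mul _⟩) (Ne.symm hM)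
        rw [eq_top_iff]
        intro z _
        obtain ⟨z, rfl⟩ := e.surjective z
        obtain ⟨b, hb, h, hh, hbh⟩ : (z : G) ∈ M := (hcoat.2 M hHM) ▸ Subgroup.mem_top _
        have hhN : h ∈ N := by
          rw [show h = b⁻¹ * z by rw [← hbh, inv_mul_cancel_left]]
          exact mul_mem (inv_mem (hupN B hb)) z.2
        have hb' := (hup B ⟨b, hupN B hb⟩).1 hb
        have hh' := hAB ((hmemA ⟨h, hhN⟩).2 hh)
        have := mul_mem hb' hh'
        rw [← map_mul] at this
        rwa [show (⟨b, hupN B hb⟩ * ⟨h, hhN⟩ : N) = z from Subtype.ext hbh] at this)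
  have hAker : cl A = cl f.ker := by
    refine (cl_congr ((H.subgroupOf N).equivMapOfInjective e.toMonoidHom e.injective)).symm.trans
      (cl_congr
        { toFun := fun x => ⟨⟨x.1.1, x.2⟩, (QuotientGroup.eq_one_iff x.1.1).2 x.1.2⟩
          invFun := fun x => ⟨⟨x.1.1, (QuotientGroup.eq_one_iff x.1.1).1 x.2⟩, x.1.2⟩
          left_inv := fun _ => rfl
          right_inv := fun _ => rfl
          map_mul' := fun _ _ => rfl })
  have hNk : cl N ≤ k := (cl_congr e).trans_le (cl_pi_le k)
  -- weights of points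
  let W : Ω → ℕ := fun b => sInf {m | ∃ x : N, (x : G) • a = b ∧ wt (e x) = m}
  have hWne : ∀ b, {m | ∃ x : N, (x : G) • a = b ∧ wt (e x) = m}.Nonempty := fun b => by
    obtain ⟨x, hx, h⟩ := htr b
    exact ⟨_, ⟨x, hx⟩, h, rfl⟩
  have hWle : ∀ x : N, W ((x : G) • a) ≤ wt (e x) := fun x => Nat.sInf_le ⟨x, rfl, rfl⟩
  have hWex : ∀ b, ∃ x : N, (x : G) • a = b ∧ wt (e x) = W b := fun b => Nat.sInf_mem (hWne b)
  have hWinv : ∀ (h : H) b, W ((h : G) • b) ≤ W b := by
    intro h b
    obtain ⟨x, hx, hw⟩ := hWex b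
    have h1 := hWle (MulAut.conjNormal (h : G) x)
    rw [← hconj, wt_map hna, hw] at h1
    have h2 : (MulAut.conjNormal (h : G) x : G) • a = (h : G) • b := by
      rw [MulAut.conjNormal_apply, mul_smul, mul_smul,
        show (h : G)⁻¹ • a = a from inv_smul_eq_iff.2 h.2.symm, hx]
    rwa [h2] at h1
  have hWeq : ∀ (h : H) b, W ((h : G) • b) = W b := fun h b =>
    le_antisymm (hWinv h b) (by
      have := hWinv h⁻¹ ((h : G) • b)
      rwa [Subgroup.coe_inv, inv_smul_smul] at this)
  have hWa : W a = 0 := Nat.le_zero.1 (by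
    have := hWle 1
    simpa [wt] using this)
  have hdown : ∀ m b, W b = m + 1 → ∃ b', W b' = m := by
    intro m b hb
    obtain ⟨x, hx, hw⟩ := hWex b
    rw [hb] at hw
    obtain ⟨i, hi⟩ : ∃ i, e x i ≠ 1 := by
      by_contra hc
      push Not at hc
      have : e x = 1 := funext hc
      rw [this] at hw
      simp [wt] at hw
    let x' := e.symm (Function.update (e x) i 1)
    have hwt : wt (e x') = m := by
      have h1 : (Finset.univ.filter fun j => e x' j ≠ 1) =
          (Finset.univ.filter fun j => e x j ≠ 1).erase i := by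
        ext j
        simp only [x', MulEquiv.apply_symm_apply, Finset.mem_filter, Finset.mem_univ, true_and,
          Finset.mem_erase]
        rcases eq_or_ne j i with rfl | hj <;> simp [*]
      unfold wt at hw ⊢
      convert_to ((Finset.univ.filter fun j => e x j ≠ 1).erase i).card = m
      · rw [← h1]; congr
      rw [Finset.card_erase_of_mem (by simpa using hi)]
      have : (Finset.univ.filter fun j => e x j ≠ 1).card = m + 1 := by rw [← hw]; congr
      omega
    refine ⟨(x' : G) • a, le_antisymm (hwt ▸ hWle x') ?_⟩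
    obtain ⟨z, hz, hzw⟩ := hWex ((x' : G) • a)
    by_contra hc
    have hs : e.symm (Pi.mulSingle i (e x i)) * x' = x := by
      rw [← map_mul e.symm, MulEquiv.symm_apply_eq]
      funext j
      rcases eq_or_ne j i with rfl | hj <;> simp [*]
    have h2 := hWle (e.symm (Pi.mulSingle i (e x i)) * z)
    rw [Subgroup.coe_mul, mul_smul, hz, ← mul_smul, ← Subgroup.coe_mul, hs, hx, hb] at h2
    have h3 : wt (e (e.symm (Pi.mulSingle i (e x i)) * z)) ≤ wt (e z) + 1 := by
      unfold wt
      refine (Finset.card_le_card (t := insert i (Finset.univ.filter fun j => e z j ≠ 1))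
        fun j hj => ?_).trans ((Finset.card_insert_le _ _).trans (le_of_eq (by congr)))
      simp only [map_mul, MulEquiv.apply_symm_apply, Pi.mul_apply, Finset.mem_filter,
        Finset.mem_univ, true_and] at hj
      rcases eq_or_ne j i with rfl | hji
      · simp
      · simpa [hji] using hj
    omega
  let w0 := W ((e.symm y : G) • a)
  have hlev : ∀ j, j ≤ w0 → ∃ b, W b = j := by
    intro j hj
    obtain ⟨d, hd⟩ := Nat.exists_eq_add_of_le hj
    clear hj
    induction d generalizing j with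
    | zero => exact ⟨_, hd⟩
    | succ d ih =>
      obtain ⟨b, hb⟩ := ih (j + 1) (by omega)
      exact hdown j b hb
  have hw0 : 3 * k ≤ 3 * cl A + 4 * w0 := by
    obtain ⟨x, hx, hw⟩ := hWex ((e.symm y : G) • a)
    have hmem : e ((e.symm y)⁻¹ * x) ∈ A := (hmemA _).2 (by
      rw [hH, mem_stabilizer_iff, Subgroup.coe_mul, Subgroup.coe_inv, mul_smul, hx, inv_smul_smul])
    have := hy _ hmem
    rw [map_mul, map_inv, MulEquiv.apply_symm_apply, mul_inv_cancel_left, hw,
      Fintype.card_fin] at this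
    exact this
  -- the orbits of the stabiliser on the other points
  let C : SubMulAction H Ω := ⟨{x | x ≠ a}, fun h x hx e2 => hx (by
    rwa [← smul_left_cancel_iff h, show h • a = a from h.2])⟩
  letI : Fintype C := Fintype.ofFinite _
  have hCcard : Fintype.card C = Fintype.card Ω - 1 := by
    rw [← Nat.card_eq_fintype_card, show Nat.card C = Nat.card {x // x ≠ a} from rfl,
      Nat.card_eq_fintype_card, Fintype.card_subtype_compl, Fintype.card_subtype_eq]
  haveI : FaithfulSMul H C := ⟨fun {g h} e2 => by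
    refine Subtype.ext (FaithfulSMul.eq_of_smul_eq_smul (α := Ω) fun x => ?_)
    rcases eq_or_ne x a with rfl | hx
    · exact g.2.trans h.2.symm
    · exact congrArg Subtype.val (e2 ⟨x, hx⟩)⟩
  have hH' := faithful_bound (G := H) (Ω := C) (IH _ (by omega))
  have hw : w0 ≤ nOrb H C := by
    rcases Nat.eq_zero_or_pos w0 with h0 | h0
    · omega
    rw [← Nat.card_fin w0]
    refine card_le_nOrb (fun x : C => (⟨min (W x.1 - 1) (w0 - 1), by omega⟩ : Fin w0))
      (fun h x => Fin.ext ?_) fun j => ?_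
    · show min (W ((h : G) • x.1) - 1) _ = _
      rw [hWeq]
    · obtain ⟨b, hb⟩ := hlev (j.val + 1) (by omega)
      refine ⟨⟨b, fun e2 => ?_⟩, Fin.ext ?_⟩
      · rw [e2, hWa] at hb; omega
      · show min (W b - 1) _ = _
        rw [hb]; omega
  omega

theorem bound_all : ∀ n, Bound n := by
  intro n
  induction n using Nat.strong_induction_on with
  | _ n IH =>
    intro G
    classical
    have hcard : Fintype.card (Fin n) = n := Fintype.card_fin n
    have IH' : ∀ m < Fintype.card (Fin n), Bound m := by rwa [hcard]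
    rcases Nat.lt_or_ge n 2 with hn | hn
    · have h1 : cl G = 0 := by
        haveI : Subsingleton (Fin n) := Fin.subsingleton_iff_le_one.2 (by omega)
        have := two_pow_cl_le G
        rw [Nat.card_unique] at this
        by_contra hc
        have := Nat.pow_le_pow_right two_pos (Nat.one_le_iff_ne_zero.2 hc)
        omega
      have := nOrb_le_card (G := G) (X := Fin n)
      omega
    rcases Nat.lt_or_ge (nOrb G (Fin n)) 2 with hr | hr
    · haveI : Subsingleton (Quotient (orbitRel G (Fin n))) :=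
        Finite.card_le_one_iff_subsingleton.1 (Nat.le_of_lt_succ hr)
      haveI : IsPretransitive G (Fin n) := ⟨fun x y =>
        Quotient.exact (Subsingleton.elim (Quotient.mk (orbitRel G (Fin n)) y) (Quotient.mk _ x))⟩
      haveI : Nontrivial (Fin n) := Fin.nontrivial_iff_two_le.2 hn
      let a : Fin n := ⟨0, by omega⟩
      have key : 3 * cl G + 4 ≤ 4 * Fintype.card (Fin n) := by
        by_cases hcoat : IsCoatom (stabilizer G a)
        · exact prim IH' a hcoat
        · have hne : stabilizer G a ≠ ⊤ := by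
            intro e
            obtain ⟨b, hb⟩ := exists_ne a
            obtain ⟨g, hg⟩ := exists_smul_eq G a b
            exact hb (hg ▸ mem_stabilizer_iff.1 (e ▸ Subgroup.mem_top g : g ∈ stabilizer G a))
          obtain ⟨M, hM1, hM2⟩ : ∃ M, stabilizer G a < M ∧ M ≠ ⊤ := by
            by_contra hc
            push Not at hc
            exact hcoat ⟨hne, hc⟩
          exact imprim IH' a M hM1 hM2
      rw [hcard] at key
      omega
    · have := intrans (G := G) IH' hr
      rwa [hcard] at this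

end CfsgLib.Perm.CompLength
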