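import Mathlib

/-! Subnormal series and composition length of a finite group. -/

namespace CfsgLib.Perm.CompLength

variable {G : Type*} [Group G]

/-- `Ser H l`: a strictly increasing chain of length `l` from `⊥` to `H`, each term normal in the
next. -/
inductive Ser : Subgroup G → ℕ → Prop
  | bot : Ser ⊥ 0
  | step {H K : Subgroup G} {l : ℕ} :
      Ser H l → H < K → (∀ k ∈ K, ∀ h ∈ H, k * h * k⁻¹ ∈ H) → Ser K (l + 1)

theorem Ser.cast {H K : Subgroup G} {l : ℕ} (h : Ser H l) (e : H = K) : Ser K l := e ▸ h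

theorem exists_ser (H : Subgroup G) : ∃ l, Ser H l := by
  rcases eq_or_ne H ⊥ with rfl | h
  · exact ⟨0, .bot⟩
  · refine ⟨1, .step .bot (bot_lt_iff_ne_bot.2 h) fun k _ x hx => ?_⟩
    rw [Subgroup.mem_bot.1 hx]; simp

theorem Ser.le_cardFactors [Finite G] {H : Subgroup G} {l : ℕ} (h : Ser H l) :
    l ≤ ArithmeticFunction.cardFactors (Nat.card H) := by
  induction h with
  | bot => simp
  | @step A B l _ hlt _ ih =>
    obtain ⟨q, hq⟩ := Subgroup.card_dvd_of_le hlt.le
    have hA : Nat.card A ≠ 0 := Nat.card_pos.ne'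
    have hB : Nat.card B ≠ 0 := Nat.card_pos.ne'
    have hq0 : q ≠ 0 := by rintro rfl; exact hB (by simpa using hq)
    have hq1 : q ≠ 1 := by
      rintro rfl
      exact hlt.ne (Subgroup.eq_of_le_of_card_ge hlt.le (by simp [hq]))
    have : 0 < ArithmeticFunction.cardFactors q := by
      rw [ArithmeticFunction.cardFactors_pos_iff_one_lt]; omega
    rw [hq, ArithmeticFunction.cardFactors_mul hA hq0]
    omega

theorem Ser.two_pow_le [Finite G] {H : Subgroup G} {l : ℕ} (h : Ser H l) :
    2 ^ l ≤ Nat.card H := by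
  induction h with
  | bot => simp
  | @step A B l _ hlt _ ih =>
    obtain ⟨q, hq⟩ := Subgroup.card_dvd_of_le hlt.le
    have hB : Nat.card B ≠ 0 := Nat.card_pos.ne'
    have hq0 : q ≠ 0 := by rintro rfl; exact hB (by simpa using hq)
    have hq1 : q ≠ 1 := by
      rintro rfl
      exact hlt.ne (Subgroup.eq_of_le_of_card_ge hlt.le (by simp [hq]))
    rw [hq, pow_succ]
    exact Nat.mul_le_mul ih (by omega)

theorem Ser.map {Q : Type*} [Group Q] (f : G →* Q) (hf : Function.Injective f)
    {H : Subgroup G} {l : ℕ} (h : Ser H l) : Ser (H.map f) l := by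
  induction h with
  | bot => rw [Subgroup.map_bot]; exact .bot
  | @step A B l _ hlt hn ih =>
    refine .step ih ((Subgroup.map_lt_map_iff_of_injective hf).2 hlt) ?_
    rintro _ ⟨k, hk, rfl⟩ _ ⟨x, hx, rfl⟩
    exact ⟨_, hn k hk x hx, by simp⟩

/-- Lift a series of a subgroup of the range and prefix it with one of the kernel. -/
theorem Ser.comap_add {Q : Type*} [Group Q] (f : G →* Q) {i : ℕ} (hi : Ser f.ker i)
    {S : Subgroup Q} {j : ℕ} (hj : Ser S j) (hS : S ≤ f.range) : Ser (S.comap f) (i + j) := by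
  induction hj with
  | bot => rw [MonoidHom.comap_bot]; exact hi
  | @step A B l _ hlt hn ih =>
    have hA := ih (hlt.le.trans hS)
    refine .step hA ?_ fun k hk x hx => ?_
    · obtain ⟨q, hqB, hqA⟩ := SetLike.exists_of_lt hlt
      obtain ⟨g, rfl⟩ := hS hqB
      exact (Subgroup.comap_mono hlt.le).lt_of_ne fun e =>
        hqA (by have : g ∈ A.comap f := e.ge hqB; exact this)
    · show f (k * x * k⁻¹) ∈ A
      simpa using hn (f k) hk (f x) hx

/-- A series splits along a homomorphism. -/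
theorem Ser.split {Q : Type*} [Group Q] (f : G →* Q) {H : Subgroup G} {l : ℕ} (h : Ser H l) :
    ∃ i j, l ≤ i + j ∧ Ser (H ⊓ f.ker) i ∧ Ser (H.map f) j := by
  induction h with
  | bot => exact ⟨0, 0, le_rfl, by rw [bot_inf_eq]; exact .bot, by rw [Subgroup.map_bot]; exact .bot⟩
  | @step A B l _ hlt hn ih =>
    obtain ⟨i, j, hl, hi, hj⟩ := ih
    have h1 : A ⊓ f.ker ≤ B ⊓ f.ker := inf_le_inf_right _ hlt.le
    have h2 : A.map f ≤ B.map f := Subgroup.map_mono hlt.le
    have n1 : ∀ k ∈ B ⊓ f.ker, ∀ x ∈ A ⊓ f.ker, k * x * k⁻¹ ∈ A ⊓ f.ker := fun k hk x hx =>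
      ⟨hn k hk.1 x hx.1, f.ker.mul_mem (f.ker.mul_mem hk.2 hx.2) (f.ker.inv_mem hk.2)⟩
    have n2 : ∀ k ∈ B.map f, ∀ x ∈ A.map f, k * x * k⁻¹ ∈ A.map f := by
      rintro _ ⟨k, hk, rfl⟩ _ ⟨x, hx, rfl⟩
      exact ⟨_, hn k hk x hx, by simp⟩
    by_cases e1 : A ⊓ f.ker = B ⊓ f.ker
    · by_cases e2 : A.map f = B.map f
      · exfalso
        obtain ⟨b, hbB, hbA⟩ := SetLike.exists_of_lt hlt
        obtain ⟨a, ha, hab⟩ : f b ∈ A.map f := e2 ▸ ⟨b, hbB, rfl⟩
        have : a⁻¹ * b ∈ A ⊓ f.ker := e1 ▸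
          ⟨B.mul_mem (B.inv_mem (hlt.le ha)) hbB, by simp [hab]⟩
        exact hbA (by simpa using A.mul_mem ha this.1)
      · exact ⟨i, j + 1, by omega, hi.cast e1, .step hj (lt_of_le_of_ne h2 e2) n2⟩
    · by_cases e2 : A.map f = B.map f
      · exact ⟨i + 1, j, by omega, .step hi (lt_of_le_of_ne h1 e1) n1, hj.cast e2⟩
      · exact ⟨i + 1, j + 1, by omega, .step hi (lt_of_le_of_ne h1 e1) n1,
          .step hj (lt_of_le_of_ne h2 e2) n2⟩

/-- The composition length. -/
noncomputable def cl (G : Type*) [Group G] : ℕ := sSup {l | Ser (⊤ : Subgroup G) l}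

variable [Finite G]

theorem bddAbove_ser : BddAbove {l | Ser (⊤ : Subgroup G) l} :=
  ⟨Nat.card G, fun l hl => by
    have := hl.two_pow_le
    rw [Subgroup.card_top] at this
    exact l.lt_two_pow_self.le.trans this⟩

theorem ser_cl (G : Type*) [Group G] [Finite G] : Ser (⊤ : Subgroup G) (cl G) :=
  Nat.sSup_mem (exists_ser _) bddAbove_ser

theorem le_cl {l : ℕ} (h : Ser (⊤ : Subgroup G) l) : l ≤ cl G := le_csSup bddAbove_ser h

theorem le_cl_sub {H : Subgroup G} {l : ℕ} (h : Ser H l) : l ≤ cl H := by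
  have h0 : Ser H.subtype.ker 0 := by rw [Subgroup.ker_subtype]; exact .bot
  have h1 := Ser.comap_add H.subtype h0 h H.range_subtype.ge
  rw [zero_add, Subgroup.comap_subtype, Subgroup.subgroupOf_self] at h1
  exact le_cl h1

theorem ser_sub (H : Subgroup G) : Ser H (cl H) := by
  have := (ser_cl H).map H.subtype H.subtype_injective
  rwa [← MonoidHom.range_eq_map, Subgroup.range_subtype] at this

theorem cl_le_add {Q : Type*} [Group Q] [Finite Q] (f : G →* Q) :
    cl G ≤ cl f.ker + cl f.range := by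
  obtain ⟨i, j, h, hi, hj⟩ := (ser_cl G).split f
  rw [top_inf_eq] at hi
  rw [← MonoidHom.range_eq_map] at hj
  have := le_cl_sub hi; have := le_cl_sub hj
  omega

theorem add_le_cl {Q : Type*} [Group Q] [Finite Q] (f : G →* Q) :
    cl f.ker + cl f.range ≤ cl G := by
  have h := (ser_sub f.ker).comap_add f (ser_sub f.range) le_rfl
  rw [show f.range.comap f = ⊤ from eq_top_iff.2 fun x _ => ⟨x, rfl⟩] at h
  exact le_cl h

theorem cl_congr {G' : Type*} [Group G'] [Finite G'] (e : G ≃* G') : cl G = cl G' := by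
  apply le_antisymm
  · have := (ser_cl G).map e.toMonoidHom e.injective
    rw [← MonoidHom.range_eq_map, MonoidHom.range_eq_top.2 e.surjective] at this
    exact le_cl this
  · have := (ser_cl G').map e.symm.toMonoidHom e.symm.injective
    rw [← MonoidHom.range_eq_map, MonoidHom.range_eq_top.2 e.symm.surjective] at this
    exact le_cl this

theorem two_pow_cl_le (G : Type*) [Group G] [Finite G] : 2 ^ cl G ≤ Nat.card G := by
  simpa using (ser_cl G).two_pow_le

theorem cl_le_cardFactors (G : Type*) [Group G] [Finite G] :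
    cl G ≤ ArithmeticFunction.cardFactors (Nat.card G) := by
  simpa using (ser_cl G).le_cardFactors

omit [Finite G] in
/-- The statement's chains give series. -/
theorem ser_of_chain : ∀ (l : ℕ) (H : Fin (l + 1) → Subgroup G), H 0 = ⊥ →
    (∀ i : Fin l, H i.castSucc < H i.succ ∧ ((H i.castSucc).subgroupOf (H i.succ)).Normal) →
    Ser (H (Fin.last l)) l
  | 0, H, h0, _ => by rw [show Fin.last 0 = 0 from rfl, h0]; exact .bot
  | l + 1, H, h0, h => by
    have ih := ser_of_chain l (fun i => H i.castSucc) (by simpa using h0) fun i => by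
      simpa using h i.castSucc
    have hs := h (Fin.last l)
    rw [Fin.succ_last] at hs
    exact .step ih hs.1 fun k hk x hx =>
      (Subgroup.normal_subgroupOf_iff hs.1.le).1 hs.2 x k hx hk

end CfsgLib.Perm.CompLength
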